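import Groth.Agent.DCK91.PullStalk
import Groth.Agent.FCompl13.StalkZero
import Groth.Agent.QC70.Stalk
import Groth.Agent.QC70.FiniteType
import Groth.Agent.Props58.LocFree.Criteria
import Groth.Agent.Betti41.FibRank
import Mathlib.RingTheory.LocalRing.Module

/-! Universally injective maps into finite locally free modules. -/

set_option autoImplicit false
set_option backward.isDefEq.respectTransparency.types false
set_option linter.style.haveILetI false
set_option maxHeartbeats 1000000

noncomputable section

universe u

open CategoryTheory CategoryTheory.Limits AlgebraicGeometry TopologicalSpace Opposite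
open Groth.Agent.QC70 Groth.Agent.Props58.LocFree

namespace Groth.Agent.RepF64

variable {X Y : Scheme.{u}}

/-- A split injection stays injective after base change. -/
theorem lTensor_injective_of_left_inverse {A M N : Type u} [CommRing A] [AddCommGroup M] [Module A M]
    [AddCommGroup N] [Module A N] {l : M →ₗ[A] N} {l' : N →ₗ[A] M} (h : l' ∘ₗ l = LinearMap.id)
    (Q : Type u) [AddCommGroup Q] [Module A Q] : Function.Injective (l.lTensor Q) := by
  have : l'.lTensor Q ∘ₗ l.lTensor Q = LinearMap.id := by rw [← LinearMap.lTensor_comp, h, LinearMap.lTensor_id]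
  exact Function.HasLeftInverse.injective ⟨_, LinearMap.congr_fun this⟩

/-- The stalk map of an inverse image is the base change of the stalk map. -/
theorem injective_stalk_pullback_iff (f : X ⟶ Y) {M N : Y.Modules} (φ : M ⟶ N) (x : X) :
    letI := (f.stalkMap x).hom.toAlgebra
    Function.Injective (stalkMapM ((Scheme.Modules.pullback f).map φ) x) ↔
      Function.Injective ((stalkLinear φ (f x)).lTensor (X.presheaf.stalk x)) := by
  letI := (f.stalkMap x).hom.toAlgebra
  letI := Module.compHom (((Scheme.Modules.pullback f).obj M).presheaf.stalk x) (f.stalkMap x).hom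
  letI := Module.compHom (((Scheme.Modules.pullback f).obj N).presheaf.stalk x) (f.stalkMap x).hom
  haveI : IsScalarTower (Y.presheaf.stalk (f x)) (X.presheaf.stalk x)
      (((Scheme.Modules.pullback f).obj M).presheaf.stalk x) :=
    IsScalarTower.of_algebraMap_smul fun r e => rfl
  haveI : IsScalarTower (Y.presheaf.stalk (f x)) (X.presheaf.stalk x)
      (((Scheme.Modules.pullback f).obj N).presheaf.stalk x) :=
    IsScalarTower.of_algebraMap_smul fun r e => rfl
  let eM := (DCK91.isBaseChange_pullη f M x).equiv
  let eN := (DCK91.isBaseChange_pullη f N x).equiv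
  have key : ∀ z, stalkMapM ((Scheme.Modules.pullback f).map φ) x (eM z) =
      eN ((stalkLinear φ (f x)).lTensor (X.presheaf.stalk x) z) := by
    intro z
    induction z using TensorProduct.induction_on with
    | zero =>
      rw [map_zero, map_zero, map_zero]
      exact map_zero _
    | add a b ha hb =>
      rw [map_add, map_add, map_add]
      exact ((stalkLinear ((Scheme.Modules.pullback f).map φ) x).map_add _ _).trans (congrArg₂ (· + ·) ha hb)
    | tmul s m =>
      rw [LinearMap.lTensor_tmul, IsBaseChange.equiv_tmul, IsBaseChange.equiv_tmul]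
      refine ((stalkLinear ((Scheme.Modules.pullback f).map φ) x).map_smul s _).trans (congrArg (s • ·) ?_)
      exact (FCompl13.pullη_stalkMapM f φ x m).symm
  have hfun : stalkMapM ((Scheme.Modules.pullback f).map φ) x ∘ eM =
      eN ∘ (stalkLinear φ (f x)).lTensor (X.presheaf.stalk x) := funext key
  rw [← Function.Injective.of_comp_iff' _ eM.bijective, hfun, Function.Injective.of_comp_iff eN.injective]

variable {S : Scheme.{u}} {U E : S.Modules} (ι : U ⟶ E)

/-- Split injective on every stalk. -/
def StalkSplit : Prop :=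
  ∀ s : S, ∃ l, l ∘ₗ stalkLinear ι s = LinearMap.id

theorem mono_pullback_of_stalkSplit (h : StalkSplit ι) {T : Scheme.{u}} (f : T ⟶ S) :
    Mono ((Scheme.Modules.pullback f).map ι) := by
  refine mono_of_injective_stalkMapM _ fun t => ?_
  obtain ⟨l, hl⟩ := h (f t)
  letI := (f.stalkMap t).hom.toAlgebra
  exact (injective_stalk_pullback_iff f ι t).2 (lTensor_injective_of_left_inverse hl _)

theorem mono_of_stalkSplit (h : StalkSplit ι) : Mono ι :=
  mono_of_injective_stalkMapM _ fun s => by
    obtain ⟨l, hl⟩ := h s
    exact Function.HasLeftInverse.injective (f := stalkLinear ι s) ⟨l, LinearMap.congr_fun hl⟩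

theorem exact_stalk_cokernel [Mono ι] (s : S) :
    Function.Exact (stalkLinear ι s) (stalkLinear (cokernel.π ι) s) := fun e => by
  constructor
  · intro he
    let C := ShortComplex.mk ι (cokernel.π ι) (cokernel.condition ι)
    haveI : Mono C.f := ‹Mono ι›
    exact stalkMapM_exact C (ShortComplex.exact_of_g_is_cokernel C (cokernelIsCokernel ι)) s e he
  · rintro ⟨d, rfl⟩
    obtain ⟨W, hW, t, rfl⟩ := germM_exist d
    show stalkMapM (cokernel.π ι) s (stalkMapM ι s (germM U W s hW t)) = 0
    rw [stalkMapM_germ, stalkMapM_germ, show (cokernel.π ι).app W (ι.app W t) = (ι ≫ cokernel.π ι).app W t from rfl,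
      cokernel.condition]
    exact germM_zero hW

variable (hU : CohB1.IsFT U) (hE : FlatMod.IsFinLocFree E)

include hU hE in
theorem stalkSplit_of_cokernel [Mono ι] (hC : FlatMod.IsFinLocFree (cokernel ι)) : StalkSplit ι := by
  intro s
  haveI := free_stalk_of_isFinLocFree hC s
  obtain ⟨g, hg⟩ := Module.projective_lifting_property (stalkLinear (cokernel.π ι) s) LinearMap.id
    (surjective_stalkMapM_of_epi (cokernel.π ι) s)
  let i := stalkLinear ι s
  let p := stalkLinear (cokernel.π ι) s
  have hi : Function.Injective i := injective_stalkMapM_of_mono ι s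
  have hmem : ∀ e, (LinearMap.id - g ∘ₗ p : _ →ₗ[_] _) e ∈ LinearMap.range i := fun e => by
    refine ((exact_stalk_cokernel ι s) _).1 ?_
    show p (e - g (p e)) = 0
    rw [map_sub, sub_eq_zero]
    exact (LinearMap.congr_fun hg (p e)).symm
  refine ⟨(LinearEquiv.ofInjective i hi).symm.toLinearMap ∘ₗ LinearMap.codRestrict _ _ hmem,
    LinearMap.ext fun m => (LinearEquiv.ofInjective i hi).symm_apply_eq.2 (Subtype.ext ?_)⟩
  show i m - g (p (i m)) = i m
  rw [show p (i m) = 0 from ((exact_stalk_cokernel ι s) _).2 ⟨m, rfl⟩, map_zero, sub_zero]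

include hU hE in
theorem exists_retraction_of_field_point {T : Scheme.{u}} (f : T ⟶ S) (t : T)
    (hK : IsField (T.presheaf.stalk t)) (hsur : Function.Surjective (f.stalkMap t))
    (h : Mono ((Scheme.Modules.pullback f).map ι)) :
    ∃ l, l ∘ₗ stalkLinear ι (f t) = LinearMap.id := by
  haveI : U.IsFiniteType := hU
  haveI : E.IsFiniteType := isFiniteType_of_isFinLocFree hE
  haveI := finite_stalk_of_isFiniteType (M := U) (f t)
  haveI := finite_stalk_of_isFiniteType (M := E) (f t)
  haveI := free_stalk_of_isFinLocFree hE (f t)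
  letI := (f.stalkMap t).hom.toAlgebra
  have hinj := (injective_stalk_pullback_iff f ι t).1 (injective_stalkMapM_of_mono _ t)
  haveI : (RingHom.ker (f.stalkMap t).hom).IsMaximal := Ideal.Quotient.maximal_of_isField _ (MulEquiv.isField hK (RingHom.quotientKerEquivOfSurjective hsur).toMulEquiv)
  let q : (S.presheaf.stalk (f t)) →ₐ[S.presheaf.stalk (f t)] (T.presheaf.stalk t) := Algebra.ofId _ _
  let e : IsLocalRing.ResidueField (S.presheaf.stalk (f t)) ≃ₐ[S.presheaf.stalk (f t)] (T.presheaf.stalk t) :=
    (Ideal.quotientEquivAlgOfEq _ (IsLocalRing.eq_maximalIdeal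
      (inferInstanceAs (RingHom.ker (f.stalkMap t).hom).IsMaximal)).symm).trans
      (Ideal.quotientKerAlgEquivOfSurjective (f := q) hsur)
  refine (IsLocalRing.split_injective_iff_lTensor_residueField_injective _).2 ?_
  have hcomm : (stalkLinear ι (f t)).lTensor (T.presheaf.stalk t) ∘ LinearMap.rTensor _ e.toLinearMap =
      LinearMap.rTensor _ e.toLinearMap ∘
        (stalkLinear ι (f t)).lTensor (IsLocalRing.ResidueField (S.presheaf.stalk (f t))) :=
    funext fun z => LinearMap.congr_fun ((LinearMap.lTensor_comp_rTensor _ e.toLinearMap (stalkLinear ι (f t))).trans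
      (LinearMap.rTensor_comp_lTensor _ e.toLinearMap (stalkLinear ι (f t))).symm) z
  exact Function.Injective.of_comp (f := LinearMap.rTensor _ e.toLinearMap)
    (hcomm ▸ hinj.comp (TensorProduct.congr e.toLinearEquiv (LinearEquiv.refl _ _)).injective)

include hU hE in
theorem stalkSplit_of_fibre (h : ∀ s : S, Mono ((Scheme.Modules.pullback (S.fromSpecResidueField s)).map ι)) :
    StalkSplit ι := by
  intro s
  let t : Spec (S.residueField s) := IsLocalRing.closedPoint (S.residueField s)
  have hK : IsField ((Spec (S.residueField s)).presheaf.stalk t) := by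
    haveI : Subsingleton (Spec (S.residueField s)) := inferInstanceAs (Subsingleton (PrimeSpectrum _))
    exact Betti41.isField_stalk_of_Γtop (T := Spec (S.residueField s)) (MulEquiv.isField (Field.toIsField (S.residueField s))
      (Scheme.ΓSpecIso (S.residueField s)).commRingCatIsoToRingEquiv.toMulEquiv) t
  have := exists_retraction_of_field_point ι hU hE (S.fromSpecResidueField s) t hK
    ((S.fromSpecResidueField s).stalkMap_surjective t) (h s)
  rwa [S.fromSpecResidueField_apply s t] at this

/-- The fibre rank of a module of finite type is upper semicontinuous. -/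
theorem exists_fiberRank_le {M : S.Modules} [M.IsFiniteType] (x : S) :
    ∃ W : S.Opens, x ∈ W ∧ ∀ y ∈ W, fiberRank M y ≤ fiberRank M x := by
  haveI := finite_stalk_of_isFiniteType (M := M) x
  let k := IsLocalRing.ResidueField (S.presheaf.stalk x)
  obtain ⟨c, hc⟩ : ∃ c : Fin (fiberRank M x) → M.presheaf.stalk x,
      Submodule.span (S.presheaf.stalk x) (Set.range c) = ⊤ := by
    let b := Module.finBasis k (TensorProduct (S.presheaf.stalk x) k (M.presheaf.stalk x))
    choose c hc using fun i => TensorProduct.mk_surjective (S.presheaf.stalk x) (M.presheaf.stalk x) k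
      IsLocalRing.residue_surjective (b i)
    refine ⟨c, IsLocalRing.span_eq_top_of_tmul_eq_basis c b fun i => hc i⟩
  obtain ⟨V, hx, s, hs⟩ := exists_lift_family x c
  obtain ⟨W, hW, hxW, hsur⟩ := exists_nhd_surjective s hx fun e => by
    obtain ⟨a, ha⟩ := (Submodule.mem_span_range_iff_exists_fun _).1 (hc.ge (Submodule.mem_top (x := e)))
    exact ⟨a, by simpa [germComb, hs] using ha⟩
  refine ⟨W, hxW, fun y hy => ?_⟩
  let l := Fintype.linearCombination (S.presheaf.stalk y) fun i => germM M V y (hW hy) (s i)
  have hl : ⇑l = germComb s y (hW hy) := funext fun a => by rw [Fintype.linearCombination_apply]; rfl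
  have h1 := LinearMap.finrank_le_finrank_of_surjective (f := l.baseChange (IsLocalRing.ResidueField (S.presheaf.stalk y)))
    (LinearMap.lTensor_surjective _ (hl ▸ hsur y hy))
  refine h1.trans (le_of_eq ?_)
  rw [Module.finrank_baseChange, Module.finrank_fin_fun]

include hU hE in
theorem isFinLocFree_cokernel (h : StalkSplit ι) : FlatMod.IsFinLocFree (cokernel ι) := by
  haveI := mono_of_stalkSplit ι h
  haveI : U.IsFiniteType := hU
  haveI : E.IsFiniteType := isFiniteType_of_isFinLocFree hE
  haveI : (cokernel ι).IsFiniteType := QC70.isFiniteType_of_epi (cokernel.π ι)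
  have hfin := fun s => finite_stalk_of_isFiniteType (M := U) s
  have hfinE := fun s => finite_stalk_of_isFiniteType (M := E) s
  have hfree : ∀ s, Module.Free (S.presheaf.stalk s) ((cokernel ι).presheaf.stalk s) := fun s => by
    haveI := hfin s
    haveI := hfinE s
    haveI := free_stalk_of_isFinLocFree hE s
    obtain ⟨l, hl⟩ := h s
    exact Module.free_of_lTensor_residueField_injective _ _ (surjective_stalkMapM_of_epi (cokernel.π ι) s)
      (exact_stalk_cokernel ι s) (lTensor_injective_of_left_inverse hl _)
  have hadd : ∀ s, fiberRank E s = fiberRank U s + fiberRank (cokernel ι) s := fun s => by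
    haveI := hfree s
    haveI := hfin s
    haveI := hfinE s
    haveI := finite_stalk_of_isFiniteType (M := cokernel ι) s
    haveI := free_stalk_of_isFinLocFree hE s
    obtain ⟨l, hl⟩ := h s
    let i := stalkLinear ι s
    let p := stalkLinear (cokernel.π ι) s
    let e : E.presheaf.stalk s ≃ₗ[S.presheaf.stalk s]
        (U.presheaf.stalk s × (cokernel ι).presheaf.stalk s) :=
      LinearEquiv.ofBijective (l.prod p) ⟨by
        refine (injective_iff_map_eq_zero _).2 fun z hz => ?_
        obtain ⟨m, rfl⟩ := ((exact_stalk_cokernel ι s) z).1 (congrArg Prod.snd hz)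
        have : l (i m) = 0 := congrArg Prod.fst hz
        rw [show l (i m) = m from LinearMap.congr_fun hl m] at this
        rw [this, map_zero], fun ⟨m, c⟩ => by
        obtain ⟨z, rfl⟩ := surjective_stalkMapM_of_epi (cokernel.π ι) s c
        refine ⟨z - i (l z) + i m, Prod.ext ?_ ?_⟩
        · show l (z - i (l z) + i m) = m
          rw [map_add, map_sub, show l (i (l z)) = l z from LinearMap.congr_fun hl _,
            show l (i m) = m from LinearMap.congr_fun hl _, sub_self, zero_add]
        · show p (z - i (l z) + i m) = p z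
          rw [map_add, map_sub, show p (i (l z)) = 0 from ((exact_stalk_cokernel ι s) _).2 ⟨_, rfl⟩,
            show p (i m) = 0 from ((exact_stalk_cokernel ι s) _).2 ⟨_, rfl⟩, sub_zero, add_zero]⟩
    haveI : Module.Free (S.presheaf.stalk s) (U.presheaf.stalk s) :=
      haveI : Module.Projective (S.presheaf.stalk s) (U.presheaf.stalk s) :=
        Module.Projective.of_split i l hl
      Module.free_of_flat_of_isLocalRing
    simp only [fiberRank, Module.finrank_baseChange]
    rw [e.finrank_eq, Module.finrank_prod]
  refine isFinLocFree_of_free_stalks hfree ((IsLocallyConstant.iff_exists_open _).mpr fun x => ?_)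
  obtain ⟨W₁, h₁, e₁⟩ := exists_fiberRank_le (M := U) x
  obtain ⟨W₂, h₂, e₂⟩ := exists_fiberRank_le (M := cokernel ι) x
  obtain ⟨O, hO, hxO, hOc⟩ := (IsLocallyConstant.iff_exists_open _).mp (isLocallyConstant_fiberRank hE) x
  refine ⟨(W₁ ⊓ W₂ ⊓ ⟨O, hO⟩ : S.Opens), (W₁ ⊓ W₂ ⊓ ⟨O, hO⟩ : S.Opens).2, ⟨⟨h₁, h₂⟩, hxO⟩, fun y hy => ?_⟩
  have := e₁ y hy.1.1
  have := e₂ y hy.1.2
  have := hOc y hy.2
  have := hadd x
  have := hadd y
  omega

end Groth.Agent.RepF64

end
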